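import Groth.Agent.Lib.Helper4.QcGen.Defs

set_option autoImplicit false

namespace Groth.Agent.Lib.Helper4.QcGen

open CategoryTheory Limits Opposite Simplicial AlgebraicTopology Abelian
open Groth.Agent.Lib.Helper28 Groth.Agent.Lib.Helper28.TotAcyc

universe u

variable {C : Type u} [SmallCategory C] {J : GrothendieckTopology C}
  {S : Set (Sheaf J (Type u))}

def Refines (S : Set (Sheaf J (Type u))) : Prop :=
  ∀ (T F : Sheaf J (Type u)), SCoh S T → ∀ (g : F ⟶ T), Epi g →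
    ∃ (K' : Sheaf J (Type u)) (k : K' ⟶ F), K' ∈ S ∧ Epi (k ≫ g)

def NerveClosed (S : Set (Sheaf J (Type u))) : Prop :=
  ∀ (K' T : Sheaf J (Type u)) (f : K' ⟶ T), K' ∈ S → SCoh S T → ∀ n : ℕ,
    SCoh S ((Arrow.mk f).cechNerve.obj (op ⦋n⦌))

lemma exists_lift_on (href : Refines S) {X : ShortComplex (Sheaf J AddCommGrpCat.{u})}
    (hX : X.ShortExact)
    (h1 : ∀ (K' T : Sheaf J (Type u)) (f : K' ⟶ T), K' ∈ S → SCoh S T → Epi f →
      CechAcyclicAt f X.X₁ 0)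
    (T : Sheaf J (Type u)) (hT : SCoh S T) (s : (G J).obj T ⟶ X.X₃) :
    ∃ t : (G J).obj T ⟶ X.X₂, t ≫ X.g = s := by
  have := hX.mono_f
  have := hX.epi_g
  have : Epi ((Uf J).map X.g) := epi_Uf_map J X.g
  let s₀ : T ⟶ (Uf J).obj X.X₃ := (adjG J).homEquiv T X.X₃ s
  have hepi : Epi (pullback.fst s₀ ((Uf J).map X.g)) := epi_pullback_fst J s₀ ((Uf J).map X.g)
  obtain ⟨K', k, hK', hk⟩ := href T _ hT (pullback.fst s₀ ((Uf J).map X.g)) hepi
  let f : K' ⟶ T := k ≫ pullback.fst s₀ ((Uf J).map X.g)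
  have : Epi f := hk
  let p₂ : K' ⟶ (Uf J).obj X.X₂ := k ≫ pullback.snd s₀ ((Uf J).map X.g)
  let t'' : (G J).obj K' ⟶ X.X₂ := ((adjG J).homEquiv K' X.X₂).symm p₂
  have ht'' : t'' ≫ X.g = (G J).map f ≫ s := by
    have e1 : t'' ≫ X.g = ((adjG J).homEquiv K' X.X₃).symm (p₂ ≫ (Uf J).map X.g) :=
      ((adjG J).homEquiv_naturality_right_symm p₂ X.g).symm
    have e2 : (G J).map f ≫ s = ((adjG J).homEquiv K' X.X₃).symm (f ≫ s₀) := by
      rw [(adjG J).homEquiv_naturality_left_symm, Equiv.symm_apply_apply]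
    rw [e1, e2]
    congr 1
    simp only [p₂, f, Category.assoc, pullback.condition]
  obtain ⟨x₀, hx₀⟩ : ∃ x₀ : (L f).X 0 ⟶ X.X₂, x₀ ≫ X.g = ε₀ f ≫ s := by
    refine ⟨(G J).map (WidePullback.π (fun _ : Fin (0 + 1) => (Arrow.mk f).hom) 0) ≫ t'', ?_⟩
    rw [Category.assoc, ht'', ← Category.assoc, ← Functor.map_comp, ε₀_eq]
    congr 2
    exact WidePullback.π_arrow _ _
  have h0 : ((L f).d 1 0 ≫ x₀) ≫ X.g = 0 := by
    rw [Category.assoc, hx₀, ← Category.assoc, d_comp_ε₀, zero_comp]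
  obtain ⟨c₁, hc₁⟩ : ∃ c₁ : (L f).X 1 ⟶ X.X₁, c₁ ≫ X.f = (L f).d 1 0 ≫ x₀ :=
    ⟨hX.exact.lift _ h0, hX.exact.lift_f _ h0⟩
  have hc₁' : (L f).d 2 1 ≫ c₁ = 0 := by
    rw [← cancel_mono X.f, Category.assoc, hc₁, ← Category.assoc, (L f).d_comp_d, zero_comp,
      zero_comp]
  obtain ⟨c₀, hc₀⟩ : ∃ c₀ : (L f).X 0 ⟶ X.X₁, (L f).d 1 0 ≫ c₀ = c₁ :=
    h1 K' T f hK' hT inferInstance c₁ hc₁'
  have ht₁ : (L f).d 1 0 ≫ (x₀ - c₀ ≫ X.f) = 0 := by
    rw [Preadditive.comp_sub, ← Category.assoc, hc₀, hc₁, sub_self]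
  have : Epi (ε₀ f) := epi_ε₀ f
  obtain ⟨t, ht⟩ : ∃ t : (G J).obj T ⟶ X.X₂, ε₀ f ≫ t = x₀ - c₀ ≫ X.f :=
    ⟨(exact_ε₀ f).desc _ ht₁, (exact_ε₀ f).g_desc _ ht₁⟩
  refine ⟨t, ?_⟩
  rw [← cancel_epi (ε₀ f), ← Category.assoc, ht, Preadditive.sub_comp, Category.assoc, X.zero,
    comp_zero, sub_zero, hx₀]

lemma cechAcyclicOn_of_injective (I : Sheaf J AddCommGrpCat.{u}) [Injective I] :
    CechAcyclicOn S I := by
  intro K' T f _ _ hf q
  exact cechAcyclic_of_injective I K' T f hf q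

lemma cechAcyclicOn_X₃ (href : Refines S) (hnerve : NerveClosed S)
    {X : ShortComplex (Sheaf J AddCommGrpCat.{u})} (hX : X.ShortExact)
    (h₁ : CechAcyclicOn S X.X₁) (h₂ : CechAcyclicOn S X.X₂) : CechAcyclicOn S X.X₃ := by
  intro K' T f hK' hT hf q z hz
  have := hX.mono_f
  obtain ⟨w, hw⟩ : ∃ w : (L f).X (q + 1) ⟶ X.X₂, w ≫ X.g = z :=
    exists_lift_on href hX (fun K' T f hK' hT hf => h₁ K' T f hK' hT hf 0) _
      (hnerve K' T f hK' hT (q + 1)) z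
  have h0 : ((L f).d (q + 2) (q + 1) ≫ w) ≫ X.g = 0 := by
    rw [Category.assoc, hw, hz]
  obtain ⟨v, hv⟩ : ∃ v : (L f).X (q + 2) ⟶ X.X₁, v ≫ X.f = (L f).d (q + 2) (q + 1) ≫ w :=
    ⟨hX.exact.lift _ h0, hX.exact.lift_f _ h0⟩
  have hv' : (L f).d (q + 3) (q + 2) ≫ v = 0 := by
    rw [← cancel_mono X.f, Category.assoc, hv, ← Category.assoc, (L f).d_comp_d, zero_comp,
      zero_comp]
  obtain ⟨v', hv''⟩ : ∃ v' : (L f).X (q + 1) ⟶ X.X₁, (L f).d (q + 2) (q + 1) ≫ v' = v :=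
    h₁ K' T f hK' hT hf (q + 1) v hv'
  have hw' : (L f).d (q + 2) (q + 1) ≫ (w - v' ≫ X.f) = 0 := by
    rw [Preadditive.comp_sub, ← Category.assoc, hv'', hv, sub_self]
  obtain ⟨y', hy'⟩ : ∃ y' : (L f).X q ⟶ X.X₂, (L f).d (q + 1) q ≫ y' = w - v' ≫ X.f :=
    h₂ K' T f hK' hT hf q _ hw'
  refine ⟨y' ≫ X.g, ?_⟩
  rw [← Category.assoc, hy', Preadditive.sub_comp, Category.assoc, X.zero, comp_zero, sub_zero, hw]

theorem ext_eq_zero_of_cechAcyclicOn (href : Refines S) (hnerve : NerveClosed S) (p : ℕ) :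
    ∀ (F : Sheaf J AddCommGrpCat.{u}), CechAcyclicOn S F → ∀ (T : Sheaf J (Type u)), SCoh S T →
      ∀ (x : Ext ((G J).obj T) F (p + 1)), x = 0 := by
  induction p with
  | zero =>
    intro F hF T hT x
    let X : ShortComplex (Sheaf J AddCommGrpCat.{u}) :=
      ShortComplex.mk (Injective.ι F) (cokernel.π (Injective.ι F)) (cokernel.condition _)
    have hX : X.ShortExact :=
      ShortComplex.ShortExact.mk' (ShortComplex.exact_cokernel _) inferInstance inferInstance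
    obtain ⟨x₃, hx₃⟩ := Ext.covariant_sequence_exact₁ ((G J).obj T) hX x
      (Ext.eq_zero_of_injective _) (zero_add 1)
    obtain ⟨s, rfl⟩ := (Ext.mk₀_bijective _ _).2 x₃
    obtain ⟨t, rfl⟩ := exists_lift_on href hX (fun K' T f hK' hT hf => hF K' T f hK' hT hf 0) T hT s
    rw [← hx₃, ← Ext.mk₀_comp_mk₀, Ext.comp_assoc_of_second_deg_zero, hX.comp_extClass,
      Ext.comp_zero]
  | succ p ih =>
    intro F hF T hT x
    let X : ShortComplex (Sheaf J AddCommGrpCat.{u}) :=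
      ShortComplex.mk (Injective.ι F) (cokernel.π (Injective.ι F)) (cokernel.condition _)
    have hX : X.ShortExact :=
      ShortComplex.ShortExact.mk' (ShortComplex.exact_cokernel _) inferInstance inferInstance
    obtain ⟨x₃, hx₃⟩ := Ext.covariant_sequence_exact₁ ((G J).obj T) hX x
      (Ext.eq_zero_of_injective _) (rfl : (p + 1) + 1 = p + 1 + 1)
    have hQ : CechAcyclicOn S X.X₃ :=
      cechAcyclicOn_X₃ href hnerve hX hF (cechAcyclicOn_of_injective (Injective.under F))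
    rw [← hx₃, ih X.X₃ hQ T hT x₃, Ext.zero_comp]

end Groth.Agent.Lib.Helper4.QcGen
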