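import Groth.Agent.Lib.Helper4.QcGen.Cartan

set_option autoImplicit false

namespace Groth.Agent.Lib.Helper4.QcGen

open CategoryTheory Limits Opposite Simplicial AlgebraicTopology Abelian
open Groth.Agent.Lib.Helper28 Groth.Agent.Lib.Helper28.TotAcyc

universe u

variable {C : Type u} [SmallCategory C] {J : GrothendieckTopology C}
  {S : Set (Sheaf J (Type u))} {I : Type u} [SmallCategory I] [IsFiltered I]

def FactorsG (M : I ⥤ Sheaf J AddCommGrpCat.{u}) (T : Sheaf J (Type u)) : Prop :=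
  ∀ x : (G J).obj T ⟶ colimit M, ∃ (k : I) (y : (G J).obj T ⟶ M.obj k), y ≫ colimit.ι M k = x

def InjG (M : I ⥤ Sheaf J AddCommGrpCat.{u}) (T : Sheaf J (Type u)) : Prop :=
  ∀ (k : I) (y : (G J).obj T ⟶ M.obj k), y ≫ colimit.ι M k = 0 →
    ∃ (k' : I) (g : k ⟶ k'), y ≫ M.map g = 0

theorem cechAcyclicOn_colimit (hnerve : NerveClosed S) (M : I ⥤ Sheaf J AddCommGrpCat.{u})
    (hfac : ∀ T, SCoh S T → FactorsG M T) (hinj : ∀ T, SCoh S T → InjG M T)
    (hM : ∀ i, CechAcyclicOn S (M.obj i)) : CechAcyclicOn S (colimit M) := by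
  intro K' T f hK' hT hf q x hx
  obtain ⟨k, y, rfl⟩ := hfac _ (hnerve K' T f hK' hT (q + 1)) x
  obtain ⟨k', g, hg⟩ := hinj _ (hnerve K' T f hK' hT (q + 2)) k ((L f).d (q + 2) (q + 1) ≫ y)
    (by rw [Category.assoc]; exact hx)
  obtain ⟨z, hz⟩ := hM k' K' T f hK' hT hf q (y ≫ M.map g) (by rw [← Category.assoc]; exact hg)
  refine ⟨z ≫ colimit.ι M k', ?_⟩
  rw [← Category.assoc, hz, Category.assoc, colimit.w]

end Groth.Agent.Lib.Helper4.QcGen
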