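import Groth.Agent.Lib.Helper28.TopCoh
import Groth.Agent.Lib.Helper28.TotAcyc
import Groth.Prelude.Def_CohCx

set_option autoImplicit false

namespace Groth.Agent.Lib.Helper4.QcGen

open CategoryTheory Limits Opposite Simplicial
open Groth.Agent.Lib.Helper28

universe u

variable {C : Type u} [SmallCategory C] {J : GrothendieckTopology C}

def CovBy (S : Set (Sheaf J (Type u))) (T : Sheaf J (Type u)) : Prop :=
  ∃ (K : Sheaf J (Type u)) (π : K ⟶ T), K ∈ S ∧ Epi π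

def SCoh (S : Set (Sheaf J (Type u))) (T : Sheaf J (Type u)) : Prop :=
  CovBy S T ∧ ∀ (K : Sheaf J (Type u)) (a b : K ⟶ T), K ∈ S → CovBy S (equalizer a b)

structure Hyp (S : Set (Sheaf J (Type u))) : Prop where
  h1 : ∃ K ∈ S, Epi (terminal.from K)
  h2 : ∀ (F : Sheaf J (Type u)) (K : Sheaf J (Type u)) (g : F ⟶ K), K ∈ S → Epi g →
      ∃ (K' : Sheaf J (Type u)) (k : K' ⟶ F), K' ∈ S ∧ Epi (k ≫ g)
  h3 : ∀ K ∈ S, ∀ K' ∈ S, ∃ (K'' : Sheaf J (Type u)) (g : K'' ⟶ K ⨯ K'), K'' ∈ S ∧ Epi g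
  h4 : ∀ K ∈ S, ∀ K' ∈ S, ∀ (a b : K ⟶ K'),
      ∃ (K'' : Sheaf J (Type u)) (g : K'' ⟶ equalizer a b), K'' ∈ S ∧ Epi g
  h5 : ∀ K ∈ S, CohCx.IsQcObject K

def CechAcyclicOn (S : Set (Sheaf J (Type u))) (F : Sheaf J AddCommGrpCat.{u}) : Prop :=
  ∀ (K' T : Sheaf J (Type u)) (f : K' ⟶ T), K' ∈ S → SCoh S T → Epi f →
    ∀ q : ℕ, TotAcyc.CechAcyclicAt f F q

end Groth.Agent.Lib.Helper4.QcGen
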