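import Groth.Agent.Lib.Helper4.QcGen.Colim
import Groth.Agent.Lib.Helper68.QcGenA1
import Groth.Agent.Lib.Helper68.QcGenC3
import Groth.Agent.Lib.Helper25.QcGenA2
import Groth.Agent.Lib.Helper46.QcGenA3
import Groth.Agent.Lib.Helper45.QcGenQC1
import Groth.Agent.Lib.Helper45.QcGenQC2

set_option autoImplicit false

namespace Groth.Agent.Lib.Helper4.QcGen

open CategoryTheory Limits Opposite Simplicial AlgebraicTopology Abelian
open Groth.Agent.Lib.Helper28 Groth.Agent.Lib.Helper28.TotAcyc Groth.Agent.Lib.Helper45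

universe u

variable {C : Type u} [SmallCategory C] {J : GrothendieckTopology C}
  {S : Set (Sheaf J (Type u))}

open Groth.Agent.Lib.Helper45.QcGenQC1 Groth.Agent.Lib.Helper45.QcGenQC2
  Groth.Agent.Lib.Helper68.QcGenA1 Groth.Agent.Lib.Helper68.QcGenC3
  Groth.Agent.Lib.Helper25.QcGenA2 Groth.Agent.Lib.Helper46.QcGenA3

section

variable {I : Type u} [SmallCategory I] [IsFiltered I]

lemma refines (h : Hyp S) : Refines S :=
  fun _ _ hT g hg => by
    have := hg
    exact exists_refinement h hT.1 g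

lemma nerveClosed (h : Hyp S) : NerveClosed S :=
  fun _ _ f hK' hT n =>
    scoh_cechNerve (fun sq h₁ h₂ hW => scoh_isPullback h sq h₁ h₂ hW) f (scoh_of_mem h hK') hT n

lemma factorsG (h : Hyp S) (M : I ⥤ Sheaf J AddCommGrpCat.{u}) (T : Sheaf J (Type u))
    (hT : SCoh S T) : FactorsG M T := by
  intro x
  refine exists_factor_G M (fun φ => ?_) x
  refine exists_factor_of_scoh (M ⋙ Uf J) hT.1 ?_ (fun K hK => isQC_of_isQcObject (h.h5 K hK))
    (fun hK φ => exists_local_factor h (M ⋙ Uf J) hK φ) φ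
  intro K₁ a hK₁
  exact (scoh_isPullback h (IsPullback.of_hasPullback a a) (scoh_of_mem h hK₁)
    (scoh_of_mem h hK₁) hT).1

lemma injG (h : Hyp S) (M : I ⥤ Sheaf J AddCommGrpCat.{u}) (T : Sheaf J (Type u))
    (hT : SCoh S T) : InjG M T := by
  intro k y hy
  exact exists_eq_zero_G M (fun f g hfg => exists_eq_of_covBy h (M ⋙ Uf J) hT.1 f g hfg) k y hy

theorem preservesColimit_ext (h : Hyp S) (F : I ⥤ Sheaf J AddCommGrpCat.{u}) (n : ℕ) :
    PreservesColimit F (extFunctorObj.{u} ((G J).obj (⊤_ (Sheaf J (Type u)))) n) := by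
  refine ExtColim.preservesColimit_extFunctorObj ((G J).obj (⊤_ (Sheaf J (Type u)))) I ?_ ?_ F n
  · intro F'
    refine preservesColimit_of_preserves_colimit_cocone (colimit.isColimit F') ?_
    refine (TopColim.nonempty_isColimit_ext_zero _ F' _ ?_ ?_).some
    · intro f
      exact factorsG h F' _ (scoh_terminal h) f
    · intro k g hg
      exact injG h F' _ (scoh_terminal h) k g hg
  · intro M _ n x
    exact ext_eq_zero_of_cechAcyclicOn (refines h) (nerveClosed h) n (colimit M)
      (cechAcyclicOn_colimit (nerveClosed h) M (factorsG h M) (injG h M)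
        (fun i => cechAcyclicOn_of_injective (M.obj i))) _ (scoh_terminal h) x

end

theorem main (h : Hyp S) (Λ : Type u) [SmallCategory Λ] [IsFiltered Λ] (p : ℕ) :
    PreservesColimitsOfShape Λ
      (Sheaf.functorH J p : Sheaf J AddCommGrpCat.{u} ⥤ AddCommGrpCat.{u}) :=
  ⟨fun {F} => by
    have : PreservesColimit F (extFunctorObj.{u} (TopCartan.zSh (⊤_ (Sheaf J (Type u)))) p) :=
      preservesColimit_ext h F p
    exact preservesColimit_of_natIso F (TopCoh.functorHIso (J := J) p).symm⟩

end Groth.Agent.Lib.Helper4.QcGen
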